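/-
Certificate data of a coset enumeration.
-/
import Cfsg.Agent.Lib.CosetEnum.PO7Z.Data

set_option autoImplicit false
set_option maxRecDepth 1000000

namespace CfsgLib.CosetEnum.PO7Z

open CfsgLib.CosetEnum

/-- Completion of the rows from 0. -/
def rows0 : List (List ℕ) := [[0x11200000002, 0x11300001002, 0x11400002002, 0x11500003002, 0x11600004002, 0x11700005002, 0x11800006002, 0x11900007002]]

theorem rows0_ok : okRows data table 282 0 rows0 = true := by decide +kernel

theorem rows0_len : rows0.length = 1 := by decide +kernel

end CfsgLib.CosetEnum.PO7Z
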